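import Cfsg.Agent.H409.RC.Irr2
import Cfsg.Agent.H398.RC.IrrNum

/-!
# S3510, family E, box E7: `IrrStmt` (helper409)
-/

set_option autoImplicit false
set_option linter.unusedSectionVars false

namespace Cfsg.Agent.H409.RC

open Cfsg Module Cfsg.Agent.LieClassical.HermBasic Cfsg.Agent.ClassicalGeometry.HermOrtho Cfsg.Agent.H380.RC

section num

variable {F : Type} [Field F] [Fintype F] {n q : ℕ} {K : Type} [Field K] [Fintype K] [Algebra F K]

/-- roots of unity of order dividing `q + 1` are in `F` -/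
theorem mem_of_pow (hF : Fintype.card F = q ^ 2) {z : K} (hz : z ^ (q + 1) = 1) : ∃ c : F, algebraMap F K c = z := by
  classical
  let A : Finset F := Finset.univ.filter fun c => c * c ^ q = 1
  have hA : A.card = q + 1 := by
    rw [← card_norm_eq_one hF, Nat.card_eq_fintype_card, Fintype.card_subtype]
  let B : Finset K := A.image (algebraMap F K)
  have hB : B.card = q + 1 := by
    rw [Finset.card_image_of_injective _ (algebraMap F K).injective, hA]
  have hsub : B ⊆ (Polynomial.nthRoots (q + 1) (1 : K)).toFinset := by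
    intro y hy
    obtain ⟨c, hc, rfl⟩ := Finset.mem_image.1 hy
    rw [Multiset.mem_toFinset, Polynomial.mem_nthRoots (by omega), ← map_pow, pow_succ',
      (Finset.mem_filter.1 hc).2, map_one]
  have heq : B = (Polynomial.nthRoots (q + 1) (1 : K)).toFinset := by
    apply Finset.eq_of_subset_of_card_le hsub
    rw [hB]
    exact (Multiset.toFinset_card_le _).trans (Polynomial.card_nthRoots _ _)
  have h1 : z ∈ (Polynomial.nthRoots (q + 1) (1 : K)).toFinset := by
    rw [Multiset.mem_toFinset, Polynomial.mem_nthRoots (by omega)]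
    exact hz
  rw [← heq] at h1
  obtain ⟨c, -, hc⟩ := Finset.mem_image.1 h1
  exact ⟨c, hc⟩

theorem mem_of_coprime (hF : Fintype.card F = q ^ 2) {a : K} {t r : ℕ} (ht : t * (q + 1) = q ^ n + 1)
    (ha : a ^ (q ^ n + 1) = 1) {c : F} (hc : a ^ r = algebraMap F K c) (hco : Nat.Coprime r t) :
    ∃ c : F, algebraMap F K c = a := by
  obtain ⟨z, hz⟩ := mem_of_pow (K := K) hF (z := a ^ t) (by rw [← pow_mul, ht, ha])
  have ha0 : a ≠ 0 := by
    rintro rfl
    rw [zero_pow (by omega)] at ha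
    exact zero_ne_one ha
  have h1 := Nat.gcd_eq_gcd_ab r t
  rw [hco] at h1
  refine ⟨c ^ (Nat.gcdA r t) * z ^ (Nat.gcdB r t), ?_⟩
  rw [map_mul, map_zpow₀, map_zpow₀, ← hc, hz, ← zpow_natCast, ← zpow_natCast, ← zpow_mul, ← zpow_mul, ← zpow_add₀ ha0,
    ← h1]
  simp

end num

/-- **Box E7.** -/
theorem irrStmt : IrrStmt := by
  intro G Ω _ _ _ _ _ N F _ _ n q U ι _ x f r hU hcov hP
  obtain ⟨hodd, hlin, hrq, hirr⟩ := hP
  classical
  have hn := U.hn
  have hF := U.hF
  have hq := two_le hF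
  have hfi : Fintype ι := Fintype.ofFinite ι
  obtain ⟨ω⟩ := (inferInstance : Nonempty Ω)
  obtain ⟨i₀, -⟩ := hcov ω
  have hfam : Fam q f := by
    refine ⟨hlin, fun i => (hU.lft i).ind.map_add, fun i => lin_herm U (hU.lft i) (hlin i), hU.comm, fun i => ?_⟩
    obtain ⟨k, hk⟩ := hU.ord i
    exact ⟨_, Nat.Coprime.pow_left k (hrq i), hk⟩
  obtain ⟨K, _, _, _, _, _, -, hcK, hel, hcom⟩ := irr_field i₀ hF (by omega) hfam hirr
  obtain ⟨t, ht'⟩ := Odd.nat_add_dvd_pow_add_pow q 1 hodd
  have ht : t * (q + 1) = q ^ n + 1 := by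
    rw [one_pow] at ht'
    rw [ht', mul_comm]
  have hscal : ∀ i, ∃ κ : F, ∀ v, (f i)^[r i] v = κ • v := by
    intro i
    have h1 := (hU.lft i).pow (r i)
    rw [hU.pf.pow] at h1
    exact h1.eq_one_iff.1 rfl
  have hnr : ∀ i, n ≤ r i := by
    intro i
    obtain ⟨κ, hκ⟩ := hscal i
    exact le_of_pow_scalar (by omega) (hlin i) (hU.lft i).ind.map_add (hirr i) (hU.pf.prime i).pos hκ
  have hne : Nonempty (Fin n) := ⟨⟨0, by omega⟩⟩
  obtain ⟨v₀, hv₀⟩ := exists_ne (0 : Fin n → F)
  -- the primes divide `t`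
  have hrt : ∀ i, r i ∣ t := by
    intro i
    by_contra hnd
    have hco : Nat.Coprime (r i) t := (Nat.Prime.coprime_iff_not_dvd (hU.pf.prime i)).2 hnd
    obtain ⟨κ, hκ⟩ := hscal i
    obtain ⟨a, ha, hav⟩ := hel i
    have hit : ∀ k v, (f i)^[k] v = a ^ k • v := by
      intro k v
      induction k with
      | zero => rw [Function.iterate_zero, id, pow_zero, one_smul]
      | succ k ih => rw [Function.iterate_succ_apply', ih, hav, smul_smul, ← pow_succ']
    have h1 : a ^ r i = algebraMap F K κ := by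
      have h2 := hit (r i) v₀
      rw [hκ, ← algebraMap_smul K κ v₀] at h2
      exact (smul_left_injective K hv₀ h2).symm
    obtain ⟨c, hc⟩ := mem_of_coprime hF ht ha h1 hco
    apply hU.pf.ne i
    refine (hU.lft i).eq_one_iff.2 ⟨c, fun v => ?_⟩
    rw [hav, ← hc, algebraMap_smul]
  have ht0 : 0 < t := by
    rcases Nat.eq_zero_or_pos t with h | h
    · rw [h, zero_mul] at ht
      omega
    · exact h
  have hprod : ∏ i, r i ≤ t := by
    apply Nat.le_of_dvd ht0
    apply Finset.prod_dvd_of_isRelPrime _ fun i _ => hrt i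
    intro i _ j _ hij
    refine Nat.coprime_iff_isRelPrime.1 ?_
    exact (Nat.coprime_primes (hU.pf.prime i) (hU.pf.prime j)).2 fun h => hij (hU.pf.inj h)
  have hcard : 2 ≤ Fintype.card ι := by
    obtain ⟨j, hj⟩ := H106.RC.Cov.two U.env hcov hU.pf.ne i₀
    exact Fintype.one_lt_card_iff.2 ⟨j, i₀, hj⟩
  -- the minimal degree
  obtain ⟨d, hd⟩ : ∃ d, d + 1 = t := ⟨t - 1, by omega⟩
  have hd0 : 0 < d := by
    rcases Nat.eq_zero_or_pos d with h | h
    · have h1 : r i₀ ≤ 1 := by
        rw [h, zero_add] at hd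
        rw [hd]
        exact Nat.le_of_dvd ht0 (hrt i₀)
      have := (hU.pf.prime i₀).two_le
      omega
    · exact h
  have hdeg : Cfsg.Agent.H514.DP.MinDeg (SU n F q) d := by
    have h1 : (q ^ n - q) / (q + 1) = d := by
      have h2 : q ^ n - q = d * (q + 1) := by
        have h3 : (d + 1) * (q + 1) = q ^ n + 1 := by rw [hd, ht]
        have h4 : (d + 1) * (q + 1) = d * (q + 1) + (q + 1) := by ring
        omega
      rw [h2, Nat.mul_div_cancel _ (by omega)]
    rw [← h1]
    refine S2334.result n q hn hodd hF ?_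
    intro h
    rw [Prod.mk.injEq] at h
    exact U.h32 h
  have hdegN : Cfsg.Agent.H514.DP.MinDeg N d := by
    refine H368.RC.minDeg_surj hdeg (U.e.symm.toMonoidHom.comp (Cfsg.Agent.ClassicalGeometry.PSUAutBasic.pr n F q)) ?_
    intro y
    obtain ⟨s, hs⟩ := Cfsg.Agent.ClassicalGeometry.PSUAutBasic.pr_surjective (U.e y)
    refine ⟨s, ?_⟩
    change U.e.symm _ = y
    rw [hs, MulEquiv.symm_apply_apply]
  refine H368.RC.not_cov_env U.env (le_linH U) hd0 hdegN (x := x) (c := fun i => t * (if r i = n then n else 1))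
    (fun i => ⟨_, hU.lft i, hlin i⟩) (fun i => ?_) ?_ hcov
  · exact card_cent U hcK (hU.lft i) (hlin i) (hcom i) (hU.pf.prime i) (hnr i) (hU.pf.pow i) ht
  · exact H398.RC.num_cb hn hodd hd r hU.pf.prime hU.pf.inj hnr hcard hprod

end Cfsg.Agent.H409.RC
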