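import Cfsg.Agent.H409.RC.Str
import Cfsg.Agent.H368.RC.CB
import Cfsg.Agent.S2334

/-!
# S3510, family E, box E7 (1): irreducible linear isometries (helper409)
-/

set_option autoImplicit false
set_option linter.unusedSectionVars false

namespace Cfsg.Agent.H409.RC

open Cfsg Module Cfsg.Agent.LieClassical.HermBasic Cfsg.Agent.ClassicalGeometry.HermOrtho Cfsg.Agent.H380.RC

section field

variable {F : Type} [Field F] [Fintype F] {n q : ℕ} {ι : Type} {f : ι → (Fin n → F) → (Fin n → F)}

/-- every member is irreducible : `V` is one-dimensional over a field, the members are elements of norm one -/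
theorem irr_field [Finite ι] (i₀ : ι) (hF : Fintype.card F = q ^ 2) (hn : 0 < n) (h : Fam q f)
    (hirr : ∀ (i : ι) (A : Submodule F (Fin n → F)), Stab (f i) A → A = ⊥ ∨ A = ⊤) :
    ∃ (K : Type) (_ : Field K) (_ : Fintype K) (_ : Algebra F K) (_ : Module K (Fin n → F))
      (_ : IsScalarTower F K (Fin n → F)), Odd n ∧ Fintype.card K = (q ^ n) ^ 2 ∧
      (∀ i, ∃ a : K, a ^ (q ^ n + 1) = 1 ∧ ∀ v, f i v = a • v) ∧
      (∀ (i : ι) (b : (Fin n → F) → (Fin n → F)), Lin b → (∀ v w, b (v + w) = b v + b w) →
        (∀ v w, hermForm n F q (b v) (b w) = hermForm n F q v w) → (∀ v, b (f i v) = f i (b v)) →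
        ∃ a : K, a ^ (q ^ n + 1) = 1 ∧ ∀ v, b v = a • v) := by
  classical
  have hne : Nonempty (Fin n) := ⟨⟨0, hn⟩⟩
  rcases h.tri hF hn with ⟨A, -, hb, ht, hs⟩ | ⟨W, W', hW, hW', hc, hs⟩ | hf
  · rcases hirr i₀ A (hs i₀) with h1 | h1
    · exact absurd h1 hb
    · exact absurd h1 ht
  · exfalso
    have h1 := TS.ne_bot hF hn hW' hc
    have h2 := TS.ne_bot hF hn hW hc.symm
    rcases hirr i₀ W (hs i₀).1 with h3 | h3
    · exact h1 h3
    · apply h2
      have := hc.inf_eq_bot
      rwa [h3, top_inf_eq] at this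
  obtain ⟨K, i1, i2, i3, i4, i5, hst, hcm, hel, -⟩ := hf
  obtain ⟨l, m, hnm, hl, hcK, hlK, ψ, hψ⟩ := H398.RC.kstruct hF hn hst
  have hmV : finrank K (Fin n → F) = m := by
    rw [← ψ.finrank_eq, finrank_fin_fun]
  obtain ⟨v₀, hv₀⟩ := exists_ne (0 : Fin n → F)
  have hspan : ∀ w : Fin n → F, ∃ c : K, c • v₀ = w := by
    intro w
    have h1 : (Submodule.span K {v₀}).restrictScalars F = ⊤ := by
      rcases hirr i₀ ((Submodule.span K {v₀}).restrictScalars F) (by
        intro v hv
        obtain ⟨a, ha⟩ := hel i₀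
        rw [ha]
        exact (Submodule.span K {v₀}).smul_mem a hv) with h2 | h2
      · exfalso
        have h3 : v₀ ∈ (Submodule.span K {v₀}).restrictScalars F := Submodule.mem_span_singleton_self v₀
        rw [h2] at h3
        exact hv₀ h3
      · exact h2
    have h2 : w ∈ (Submodule.span K {v₀}).restrictScalars F := by rw [h1]; trivial
    exact Submodule.mem_span_singleton.1 h2
  have hm1 : m = 1 := by
    rw [← hmV]
    exact (finrank_eq_one_iff_of_nonzero' v₀ hv₀).2 hspan
  subst hm1
  rw [one_mul] at hnm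
  subst hnm
  obtain ⟨σ, hadj, halg, hinv⟩ := H398.RC.exists_adj hF hn hst
  obtain ⟨c₀, hc₀⟩ := exists_not_fixed hF
  obtain ⟨Q, hQ, hσQ⟩ := H398.RC.inv_eq_pow σ hinv
    ⟨algebraMap F K c₀, fun h1 => hc₀ ((algebraMap F K).injective (by rw [← halg, h1]))⟩
  have hQn : Q = q ^ n := by
    have h1 : Q ^ 2 = (q ^ n) ^ 2 := by rw [← hQ, hcK]
    exact Nat.pow_left_injective (by norm_num : 2 ≠ 0) h1
  have hnorm : ∀ a : K, (∀ v w : Fin n → F, hermForm n F q (a • v) (a • w) = hermForm n F q v w) →
      a ^ (q ^ n + 1) = 1 := by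
    intro a ha
    apply H398.RC.smul_unique hF hn (F := F)
    intro v w
    rw [one_smul, ← hQn, pow_succ, ← hσQ, mul_smul, ← hadj, ha]
  refine ⟨K, i1, i2, i3, i4, i5, hl, hcK, ?_, ?_⟩
  · intro i
    obtain ⟨a, ha⟩ := hel i
    refine ⟨a, hnorm a fun v w => ?_, ha⟩
    rw [← ha, ← ha, h.herm]
  · intro i b hbl hba hbh hbc
    obtain ⟨a, ha⟩ := hspan (b v₀)
    have hab : ∀ v, b v = a • v := by
      let A : Submodule F (Fin n → F) :=
        { carrier := {v | b v = a • v}
          add_mem' := fun {v w} hv hw => by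
            change b (v + w) = a • (v + w)
            rw [hba, smul_add]
            exact congrArg₂ _ hv hw
          zero_mem' := by
            change b 0 = a • 0
            have := hba 0 0
            rw [add_zero] at this
            rw [smul_zero]
            simpa using this
          smul_mem' := fun c v hv => by
            change b (c • v) = a • (c • v)
            rw [hbl, smul_comm a c v]
            exact congrArg _ hv }
      have hAs : Stab (f i) A := by
        intro v hv
        change b (f i v) = a • f i v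
        rw [hbc, ← hcm]
        exact congrArg _ hv
      have hA : A = ⊤ := by
        rcases hirr i A hAs with h2 | h2
        · exfalso
          have h3 : v₀ ∈ A := ha.symm
          rw [h2] at h3
          exact hv₀ h3
        · exact h2
      intro v
      have h4 : v ∈ A := by rw [hA]; trivial
      exact h4
    exact ⟨a, hnorm a fun v w => by rw [← hab, ← hab, hbh], hab⟩

/-- the degree of an irreducible map with a scalar power -/
theorem le_of_pow_scalar {g : (Fin n → F) → (Fin n → F)} (hn : 0 < n) (hl : Lin g)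
    (ha : ∀ v w, g (v + w) = g v + g w) (hirr : ∀ A : Submodule F (Fin n → F), Stab g A → A = ⊥ ∨ A = ⊤) {r : ℕ}
    (hr : 0 < r) {c : F} (hc : ∀ v, g^[r] v = c • v) : n ≤ r := by
  classical
  have hne : Nonempty (Fin n) := ⟨⟨0, hn⟩⟩
  obtain ⟨v₀, hv₀⟩ := exists_ne (0 : Fin n → F)
  let G : Module.End F (Fin n → F) := { toFun := g, map_add' := ha, map_smul' := hl }
  let A : Submodule F (Fin n → F) := Submodule.span F (Set.range fun k : Fin r => g^[k] v₀)
  have hA : A = ⊤ := by
    rcases hirr A (by
      intro v hv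
      have h1 : A ≤ A.comap G := by
        rw [Submodule.span_le]
        rintro _ ⟨k, rfl⟩
        change G (g^[k] v₀) ∈ A
        change g (g^[k] v₀) ∈ A
        rw [← Function.iterate_succ_apply' g]
        rcases Nat.lt_or_ge (k.1 + 1) r with h2 | h2
        · exact Submodule.subset_span ⟨⟨k.1 + 1, h2⟩, rfl⟩
        · have h3 : k.1.succ = r := by have := k.2; omega
          rw [h3, hc]
          exact A.smul_mem _ (Submodule.subset_span ⟨⟨0, hr⟩, rfl⟩)
      exact h1 hv) with h2 | h2
    · exfalso
      have h3 : v₀ ∈ A := Submodule.subset_span ⟨⟨0, hr⟩, rfl⟩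
      rw [h2] at h3
      exact hv₀ h3
    · exact h2
  have h4 : finrank F A ≤ r := by
    have := finrank_range_le_card (R := F) (fun k : Fin r => g^[k] v₀)
    rwa [Fintype.card_fin] at this
  rw [hA, finrank_top, finrank_fin_fun] at h4
  exact h4

end field

end Cfsg.Agent.H409.RC
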