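import Cfsg.Agent.H409.RC.Irr1

/-!
# S3510, family E, box E7 (2): the centralizer (helper409)
-/

set_option autoImplicit false
set_option linter.unusedSectionVars false

namespace Cfsg.Agent.H409.RC

open Cfsg Module Cfsg.Agent.LieClassical.HermBasic Cfsg.Agent.ClassicalGeometry.HermOrtho Cfsg.Agent.H380.RC

section grp

variable {G Ω : Type} [Group G] [MulAction G Ω] {N : Subgroup G} {F : Type} [Field F] [Fintype F] {n q : ℕ}

/-- the elements with linear lifts -/
def linH (U : UEnv G Ω N F n q) : Subgroup G where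
  carrier := {y | ∃ b, U.Lft y b ∧ Lin b}
  one_mem' := ⟨_, U.lft_one, fun _ _ => rfl⟩
  mul_mem' := by
    rintro y z ⟨b, hb, hbl⟩ ⟨c, hc, hcl⟩
    exact ⟨_, hb.mul hc, fun r v => by rw [hcl, hbl]⟩
  inv_mem' := by
    rintro y ⟨b, hb, hbl⟩
    obtain ⟨g, hg, h1, h2⟩ := hb.inv
    refine ⟨g, hg, fun c v => ?_⟩
    have h3 : c • v = b (c • g v) := by rw [hbl, h1]
    rw [h3, h2]

theorem le_linH (U : UEnv G Ω N F n q) : N ≤ linH U := by
  intro y hy
  obtain ⟨s, rfl⟩ := U.exists_el hy
  refine ⟨_, U.lft_el s, fun c v => ?_⟩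
  change Matrix.mulVec _ (c • v) = c • Matrix.mulVec _ v
  rw [Matrix.mulVec_smul]

theorem lin_herm (U : UEnv G Ω N F n q) {y : G} {b : (Fin n → F) → (Fin n → F)} (h : U.Lft y b) (hl : Lin b)
    (v w : Fin n → F) : hermForm n F q (b v) (b w) = hermForm n F q v w := by
  obtain ⟨ρ, h1, h2⟩ := h.ind.exists_rho
  rw [h2]
  have hn := U.hn
  have h3 : ∀ c : F, ρ c = c := by
    intro c
    have hv : (Pi.single ⟨0, by omega⟩ 1 : Fin n → F) ≠ 0 := by
      intro h0
      have h4 := congrFun h0 ⟨0, by omega⟩
      rw [Pi.single_eq_same] at h4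
      exact one_ne_zero h4
    have h4 := h1 c (Pi.single ⟨0, by omega⟩ 1)
    rw [hl] at h4
    have h5 : b (Pi.single ⟨0, by omega⟩ 1) ≠ 0 := by
      intro h0
      apply hv
      apply h.ind.injective
      rw [h0, h.ind.map_zero]
    exact (smul_left_injective F h5 h4).symm
  exact h3 _

/-- **the centralizer** of an element with irreducible lift -/
theorem card_cent [Finite G] (U : UEnv G Ω N F n q) {K : Type} [Field K] [Fintype K] [Algebra F K]
    [Module K (Fin n → F)] [IsScalarTower F K (Fin n → F)] (hcK : Fintype.card K = (q ^ n) ^ 2)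
    {x : G} {f : (Fin n → F) → (Fin n → F)} (hx : U.Lft x f) (hf : Lin f)
    (hcom : ∀ b : (Fin n → F) → (Fin n → F), Lin b → (∀ v w, b (v + w) = b v + b w) →
        (∀ v w, hermForm n F q (b v) (b w) = hermForm n F q v w) → (∀ v, b (f v) = f (b v)) →
        ∃ a : K, a ^ (q ^ n + 1) = 1 ∧ ∀ v, b v = a • v)
    {r : ℕ} (hr : r.Prime) (hnr : n ≤ r) (hxr : x ^ r = 1) {t : ℕ} (ht : t * (q + 1) = q ^ n + 1) :
    Nat.card {y : linH U // (y : G) * x = x * y} ≤ t * (if r = n then n else 1) := by
  classical
  have hn := U.hn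
  have hF := U.hF
  -- the possible scalars
  let Λ : Set F := {c | c ^ r = 1 ∧ c ^ n = 1}
  have hΛ : Nat.card Λ ≤ (if r = n then n else 1) := by
    by_cases hrn : r = n
    · rw [if_pos hrn]
      have h1 : Λ ⊆ ((Polynomial.nthRoots n (1 : F)).toFinset : Set F) := by
        intro c hc
        rw [Finset.mem_coe, Multiset.mem_toFinset, Polynomial.mem_nthRoots (by omega)]
        exact hc.2
      calc Nat.card Λ ≤ Nat.card ((Polynomial.nthRoots n (1 : F)).toFinset : Set F) :=
            Nat.card_mono (Set.toFinite _) h1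
        _ = (Polynomial.nthRoots n (1 : F)).toFinset.card := by rw [Nat.card_eq_card_toFinset, Finset.toFinset_coe]
        _ ≤ Multiset.card (Polynomial.nthRoots n (1 : F)) := Multiset.toFinset_card_le _
        _ ≤ n := Polynomial.card_nthRoots n 1
    · rw [if_neg hrn]
      have h1 : Λ ⊆ {1} := by
        rintro c ⟨hc1, hc2⟩
        have hco : Nat.Coprime r n := by
          rw [Nat.Prime.coprime_iff_not_dvd hr]
          intro hd
          have := Nat.le_of_dvd (by omega) hd
          omega
        have h2 : orderOf c ∣ Nat.gcd r n := Nat.dvd_gcd (orderOf_dvd_of_pow_eq_one hc1) (orderOf_dvd_of_pow_eq_one hc2)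
        rw [hco] at h2
        exact orderOf_eq_one_iff.1 (Nat.dvd_one.1 h2)
      calc Nat.card Λ ≤ Nat.card ({1} : Set F) := Nat.card_mono (Set.toFinite _) h1
        _ = 1 := by simp
  -- the lifts
  let Y := {y : linH U // (y : G) * x = x * y}
  have hY : ∀ y : Y, ∃ b, U.Lft ((y.1 : linH U) : G) b ∧ Lin b := fun y => y.1.2
  choose B hB hBl using hY
  have hc : ∀ y : Y, ∃ c : F, c * c ^ q = 1 ∧ ∀ v, f (B y v) = c • B y (f v) := by
    intro y
    have h1 := (hB y).mul hx
    have h2 := hx.mul (hB y)
    rw [← y.2] at h2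
    exact h1.unique h2
  choose c hc1 hc using hc
  have hfne : ∃ v, f v ≠ 0 := by
    refine ⟨Pi.single ⟨0, by omega⟩ 1, fun h0 => ?_⟩
    have h1 := hx.ind.injective (h0.trans hx.ind.map_zero.symm)
    have h2 := congrFun h1 ⟨0, by omega⟩
    rw [Pi.single_eq_same] at h2
    exact one_ne_zero h2
  have hcr : ∀ y, c y ^ r = 1 := by
    intro y
    obtain ⟨κ, hκ⟩ : ∃ κ : F, ∀ v, f^[r] v = κ • v := by
      have h1 := hx.pow r
      rw [hxr] at h1
      exact h1.eq_one_iff.1 rfl
    have h2 : ∀ k v, f^[k] (B y v) = c y ^ k • B y (f^[k] v) := by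
      intro k
      induction k with
      | zero => intro v; rw [Function.iterate_zero, id, id, pow_zero, one_smul]
      | succ k ih =>
        intro v
        rw [Function.iterate_succ_apply, hc, Function.iterate_succ_apply]
        have h3 : ∀ w, f^[k] (c y • w) = c y • f^[k] w := by
          intro w
          clear ih
          induction k with
          | zero => rfl
          | succ k ih => rw [Function.iterate_succ_apply', ih, hf, Function.iterate_succ_apply']
        rw [h3, ih, smul_smul, pow_succ']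
    obtain ⟨v, hv⟩ := hfne
    have hv0 : v ≠ 0 := by
      rintro rfl
      exact hv hx.ind.map_zero
    have h3 := h2 r v
    rw [hκ, hκ, hBl, smul_smul, mul_comm, ← smul_smul] at h3
    have hκ0 : κ ≠ 0 := by
      rintro rfl
      have h4 := hκ v
      rw [zero_smul] at h4
      have h5 : ∀ k, f^[k] v ≠ 0 := by
        intro k
        induction k with
        | zero => exact hv0
        | succ k ih =>
          rw [Function.iterate_succ_apply']
          intro h6
          exact ih (hx.ind.injective (h6.trans hx.ind.map_zero.symm))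
      exact h5 r h4
    have hb0 : B y v ≠ 0 := by
      intro h4
      exact hv0 ((hB y).ind.injective (h4.trans (hB y).ind.map_zero.symm))
    have h4 : (1 : F) • B y v = c y ^ r • B y v := by
      rw [one_smul]
      exact smul_right_injective _ hκ0 h3
    exact (smul_left_injective F hb0 h4).symm
  have hcn : ∀ y, c y ^ n = 1 := by
    intro y
    let f' : Module.End F (Fin n → F) := { toFun := f, map_add' := hx.ind.map_add, map_smul' := hf }
    let b' : Module.End F (Fin n → F) := { toFun := B y, map_add' := (hB y).ind.map_add, map_smul' := hBl y }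
    have h1 : f' * b' = c y • (b' * f') := by
      apply LinearMap.ext
      intro v
      exact hc y v
    have h2 := congrArg LinearMap.det h1
    rw [LinearMap.det_smul, map_mul, map_mul, Module.finrank_fin_fun] at h2
    have h3 : LinearMap.det f' ≠ 0 := by
      intro h0
      have h4 := LinearMap.bot_lt_ker_of_det_eq_zero h0
      have h5 : LinearMap.ker f' = ⊥ := LinearMap.ker_eq_bot.2 hx.ind.injective
      rw [h5] at h4
      exact lt_irrefl _ h4
    have h3' : LinearMap.det b' ≠ 0 := by
      intro h0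
      have h4 := LinearMap.bot_lt_ker_of_det_eq_zero h0
      have h5 : LinearMap.ker b' = ⊥ := LinearMap.ker_eq_bot.2 (hB y).ind.injective
      rw [h5] at h4
      exact lt_irrefl _ h4
    have h6 : LinearMap.det b' * LinearMap.det f' ≠ 0 := mul_ne_zero h3' h3
    have h7 : c y ^ n * (LinearMap.det b' * LinearMap.det f') = 1 * (LinearMap.det b' * LinearMap.det f') := by
      rw [← h2, one_mul, mul_comm]
    exact mul_right_cancel₀ h6 h7
  have hc0 : ∀ y, c y ≠ 0 := by
    intro y h0
    have := hcn y
    rw [h0, zero_pow (by omega)] at this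
    exact zero_ne_one this
  -- representatives
  let y₀ : Y := ⟨1, by rw [OneMemClass.coe_one, one_mul, mul_one]⟩
  let S : F → Y := fun l => if h : ∃ y, c y = l then h.choose else y₀
  have hS : ∀ y, c (S (c y)) = c y := by
    intro y
    have h1 : ∃ y', c y' = c y := ⟨y, rfl⟩
    change c (if h : ∃ y', c y' = c y then h.choose else y₀) = c y
    rw [dif_pos h1]
    exact h1.choose_spec
  choose g hg hg1 hg2 using fun l : F => (hB (S l)).inv
  have hgl : ∀ l, Lin (g l) := by
    intro l r v
    have h3 : r • v = B (S l) (r • g l v) := by rw [hBl, hg1]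
    rw [h3, hg2]
  have key : ∀ (y : Y) (z : {z : F // z * z ^ q = 1}), ∃ a : {a : K // a * a ^ (q ^ n) = 1},
      ∀ v, z.1 • g (c y) (B y v) = a.1 • v := by
    intro y z
    have h1 := ((hg (c y)).mul (hB y)).scalar z.2
    have hl : Lin (fun v => z.1 • g (c y) (B y v)) := by
      intro r v
      change z.1 • g (c y) (B y (r • v)) = r • (z.1 • g (c y) (B y v))
      rw [hBl, hgl, smul_comm]
    have h2 : ∀ v, z.1 • g (c y) (B y (f v)) = f (z.1 • g (c y) (B y v)) := by
      intro v
      rw [hf]
      congr 1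
      -- `g f = c f g`
      have h3 : ∀ u, g (c y) (f u) = c y • f (g (c y) u) := by
        intro u
        have h4 : u = B (S (c y)) (g (c y) u) := (hg1 (c y) u).symm
        conv_lhs => rw [h4]
        rw [hc, hS, hgl, hg2]
      have h4 : c y • g (c y) (B y (f v)) = c y • f (g (c y) (B y v)) := by
        rw [← h3, ← hgl, ← hc]
      exact smul_right_injective _ (hc0 y) h4
    obtain ⟨a, ha, hav⟩ := hcom _ hl h1.ind.map_add (lin_herm U h1 hl) h2
    exact ⟨⟨a, by rw [← pow_succ', ha]⟩, hav⟩
  choose a ha using key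
  let Φ : Y × {z : F // z * z ^ q = 1} → Λ × {a : K // a * a ^ (q ^ n) = 1} := fun p =>
    (⟨c p.1, hcr p.1, hcn p.1⟩, a p.1 p.2)
  have hΦ : Function.Injective Φ := by
    rintro ⟨y, z⟩ ⟨y', z'⟩ h
    have h1 : c y = c y' := congrArg (fun p => (p.1 : F)) h
    have h2 : a y z = a y' z' := congrArg Prod.snd h
    have h3 : ∀ v, z.1 • B y v = z'.1 • B y' v := by
      intro v
      have h4 : z.1 • g (c y) (B y v) = z'.1 • g (c y') (B y' v) := by rw [ha, ha, h2]
      rw [← h1, ← hgl, ← hgl] at h4
      exact (hg (c y)).ind.injective h4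
    have h4 : y = y' := by
      have h5 := (hB y).scalar z.2
      have h6 := (hB y').scalar z'.2
      have h7 : (fun v => z.1 • B y v) = fun v => z'.1 • B y' v := funext h3
      rw [h7] at h5
      exact Subtype.ext (Subtype.ext (h5.inj h6))
    subst h4
    obtain ⟨v, hv⟩ := hfne
    have h5 : B y v ≠ 0 := by
      intro h6
      apply hv
      rw [(hB y).ind.injective (h6.trans (hB y).ind.map_zero.symm)]
      exact hx.ind.map_zero
    have h6 : z = z' := Subtype.ext (smul_left_injective F h5 (h3 v))
    rw [h6]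
  have hcard := Nat.card_le_card_of_injective Φ hΦ
  rw [Nat.card_prod, Nat.card_prod, card_norm_eq_one hF, card_norm_eq_one hcK, ← ht] at hcard
  have h1 : Nat.card Y * (q + 1) ≤ (Nat.card Λ * t) * (q + 1) := by
    calc Nat.card Y * (q + 1) ≤ Nat.card Λ * (t * (q + 1)) := hcard
      _ = _ := by ring
  have h2 : Nat.card Y ≤ Nat.card Λ * t := Nat.le_of_mul_le_mul_right h1 (by omega)
  calc Nat.card Y ≤ Nat.card Λ * t := h2
    _ ≤ (if r = n then n else 1) * t := Nat.mul_le_mul_right _ hΛ
    _ = _ := by ring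

end grp

end Cfsg.Agent.H409.RC
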